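import Cfsg.Agent.Lib.Lead.PL.Slp

/-!
# Elements of a subgroup from the outputs of a straight line program
-/

set_option autoImplicit false

namespace Cfsg.Agent.PL

open Cfsg.Agent.PG (runM)

variable {n : ℕ}

/-- the selected outputs of a straight line program are codes of elements of the subgroup -/
theorem exists_of_run (hn : n ≤ 4096) {H : Subgroup (Equiv.Perm (Fin n))} {gs : List ↥H} {cs : List ℕ}
    (h : RegsOK H gs cs) (prog : List (ℕ × ℕ)) (idx out : List ℕ)
    (hout : runK n prog cs (fun r => idx.map fun i => r.getD i (pone n)) = out) :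
    ∀ c ∈ out, ∃ g ∈ H, enc n g = c := by
  intro c hc
  rw [runK_eq] at hout
  rw [← hout, List.mem_map] at hc
  obtain ⟨i, -, rfl⟩ := hc
  exact ⟨((runM prog gs).getD i 1).1, ((runM prog gs).getD i 1).2, (h.run hn).getD i⟩

/-- the permutation of a code of an element of the subgroup -/
theorem mem_of_code (hn : n ≤ 4096) {H : Subgroup (Equiv.Perm (Fin n))} {c : ℕ}
    (h : ∃ g ∈ H, enc n g = c) : dec n c ∈ H ∧ enc n (dec n c) = c := by
  obtain ⟨g, hg, rfl⟩ := h
  rw [dec_enc hn]
  exact ⟨hg, rfl⟩

end Cfsg.Agent.PL
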