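import Cfsg.Agent.Lib.Lead.PL.Conj2
import Cfsg.Agent.Lib.Lead.PL.Regs
import Cfsg.Agent.Lib.Lead.PChain2

/-!
# Permutation groups whose outer automorphism group has order two: the certificate

A permutation group `P` on at most 4096 points with elements `x` (of prime order `p`, where `p ^ 2` does not divide the
order of `P`), `y` (normalising `⟨x⟩`) and `w` (normalising `⟨y⟩`), all given by codes.  Two chains of trees, one along a
cycle of `x` and one along a cycle of `y`, certify that `x`, `y`, `w` generate `P`, that `x` is self-centralising, and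
list the centraliser of `y`; relations between `x`, `y`, `w⁻¹` exclude the non-trivial elements `c` of the centraliser of
`y` as values of `w⁻¹ β(w)` for an automorphism `β` fixing `x` and `y`.  Together with an automorphism that maps `x` to
an element not conjugate to `x`, this gives the order two of the outer automorphism group.
-/

set_option autoImplicit false

namespace Cfsg.Agent.PL

open Cfsg
open Cfsg.Agent.PG (fixer fixer_nil allB allB_iff)

/-! ### words in three letters -/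

/-- the value of a word in three letters: `0` for the first, `1` for the second, any other number for the third -/
def evalG {G : Type*} [Monoid G] (a b c : G) : List ℕ → G
  | [] => 1
  | 0 :: u => a * evalG a b c u
  | 1 :: u => b * evalG a b c u
  | (_ + 2) :: u => c * evalG a b c u

/-- the same for maps of points -/
def evalF (fa fb fc : ℕ → ℕ) : List ℕ → ℕ → ℕ
  | [], q => q
  | 0 :: u, q => fa (evalF fa fb fc u q)
  | 1 :: u, q => fb (evalF fa fb fc u q)
  | (_ + 2) :: u, q => fc (evalF fa fb fc u q)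

theorem map_evalG {G H : Type*} [Monoid G] [Monoid H] (f : G →* H) (a b c : G) :
    ∀ u : List ℕ, f (evalG a b c u) = evalG (f a) (f b) (f c) u
  | [] => map_one f
  | 0 :: u => by
    show f (a * evalG a b c u) = f a * evalG (f a) (f b) (f c) u
    rw [map_mul, map_evalG f a b c u]
  | 1 :: u => by
    show f (b * evalG a b c u) = f b * evalG (f a) (f b) (f c) u
    rw [map_mul, map_evalG f a b c u]
  | (_ + 2) :: u => by
    show f (c * evalG a b c u) = f c * evalG (f a) (f b) (f c) u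
    rw [map_mul, map_evalG f a b c u]

variable {n : ℕ}

theorem acts_evalG {a b c : Equiv.Perm (Fin n)} {fa fb fc : ℕ → ℕ} (ha : Acts a fa) (hb : Acts b fb)
    (hc : Acts c fc) : ∀ u : List ℕ, Acts (evalG a b c u) (evalF fa fb fc u)
  | [] => Acts.one
  | 0 :: u => ha.mul (acts_evalG ha hb hc u)
  | 1 :: u => hb.mul (acts_evalG ha hb hc u)
  | (_ + 2) :: u => hc.mul (acts_evalG ha hb hc u)

/-- the check that the powers of the words are trivial -/
def relsOK (n : ℕ) (fa fb fc : ℕ → ℕ) (kills : List (List ℕ × ℕ × ℕ)) : Bool :=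
  kills.all fun e => allB n fun q => Nat.beq ((evalF fa fb fc e.1)^[e.2.1] q) q

/-- some power of a word moves its test point -/
def killedBy (n : ℕ) (fa fb fc : ℕ → ℕ) (kills : List (List ℕ × ℕ × ℕ)) : Bool :=
  kills.any fun e => Nat.blt e.2.2 n && !Nat.beq ((evalF fa fb fc e.1)^[e.2.1] e.2.2) e.2.2

/-- every candidate for an element of the centraliser of `y`, other than the identity, violates a relation -/
def killOK (n fuel cx cy cv b0 : ℕ) (tests : List ℕ) (Ls : List Level) (kills : List (List ℕ × ℕ × ℕ)) : Bool :=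
  allB n fun p =>
    match conjSteps fuel cy [] p Ls with
    | none => true
    | some st =>
      !(tests.all fun i => cond (Nat.blt i n) (Nat.beq (lk cy (applyAll fuel st i)) (applyAll fuel st (lk cy i))) true)
        || (Nat.beq p b0 || killedBy n (lk cx) (lk cy) (fun q => applyAll fuel st (lk cv q)) kills)

theorem rels_of_relsOK {a b c : Equiv.Perm (Fin n)} {fa fb fc : ℕ → ℕ} (ha : Acts a fa) (hb : Acts b fb)
    (hc : Acts c fc) {kills : List (List ℕ × ℕ × ℕ)} (h : relsOK n fa fb fc kills = true) :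
    ∀ e ∈ kills, evalG a b c e.1 ^ e.2.1 = 1 := by
  intro e he
  rw [relsOK, List.all_eq_true] at h
  have h1 := h e he
  apply ((acts_evalG ha hb hc e.1).pow e.2.1).eq_one
  intro q hq
  exact Nat.eq_of_beq_eq_true (allB_iff.1 h1 q hq)

/-- **An element of the centraliser of `y` that is compatible with the relations is trivial.** -/
theorem eq_one_of_killOK (hn : n ≤ 4096) (H : Subgroup (Equiv.Perm (Fin n))) (fuel : ℕ)
    (x y v : Equiv.Perm (Fin n)) {cx cy cv : ℕ} (hx : enc n x = cx) (hy : enc n y = cy) (hv : enc n v = cv)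
    (L : Level) (Ls : List Level) (hok : treeOK n [] (L :: Ls) = true)
    (hc : ∀ L' ∈ L :: Ls, ∀ c ∈ L'.2.1, ∃ g ∈ H, enc n g = c)
    (ht : Nat.card H ≤ (treeCounts n fuel (L :: Ls)).prod) (hcyc : baseCycle cy (L :: Ls) = true)
    (tests : List ℕ) (kills : List (List ℕ × ℕ × ℕ))
    (hchk : killOK n fuel cx cy cv L.1 tests (L :: Ls) kills = true)
    (c : Equiv.Perm (Fin n)) (hcH : c ∈ H) (hcy : c * y = y * c)
    (hrel : ∀ e ∈ kills, evalG x y (c⁻¹ * v) e.1 ^ e.2.1 = 1) : c = 1 := by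
  subst hx hy hv
  obtain ⟨hb, -, st, hst, hact⟩ := exists_conjSteps hn H fuel y y L Ls hok hc ht hcyc c hcH hcy
  have hp : ((c ⟨L.1, hb⟩ : Fin n) : ℕ) < n := (c ⟨L.1, hb⟩).2
  have h1 := allB_iff.1 hchk _ hp
  rw [hst] at h1
  have hy : Acts y (lk (enc n y)) := Acts.of_enc hn rfl
  have hcy' : c⁻¹ * y = y * c⁻¹ := by
    have := congrArg (fun z => c⁻¹ * z * c⁻¹) hcy
    simp only [mul_assoc, mul_inv_cancel, mul_one] at this
    rw [← mul_assoc, ← mul_assoc, inv_mul_cancel, one_mul] at this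
    exact this.symm
  have htests : (tests.all fun i => cond (Nat.blt i n)
      (Nat.beq (lk (enc n y) (applyAll fuel st i)) (applyAll fuel st (lk (enc n y) i))) true) = true := by
    rw [List.all_eq_true]
    intro i _
    cases hi : Nat.blt i n with
    | false => rfl
    | true =>
      rw [cond_true]
      have hi' : i < n := by simpa [Nat.blt] using hi
      have e1 : (((y * c⁻¹) ⟨i, hi'⟩ : Fin n) : ℕ) = lk (enc n y) (applyAll fuel st i) := (hy.mul hact) i hi'
      have e2 : (((c⁻¹ * y) ⟨i, hi'⟩ : Fin n) : ℕ) = applyAll fuel st (lk (enc n y) i) := (hact.mul hy) i hi'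
      rw [hcy'] at e2
      rw [← e1, ← e2]
      exact Nat.beq_refl _
  replace h1 : (!(tests.all fun i => cond (Nat.blt i n)
      (Nat.beq (lk (enc n y) (applyAll fuel st i)) (applyAll fuel st (lk (enc n y) i))) true) ||
      (Nat.beq ((c ⟨L.1, hb⟩ : Fin n) : ℕ) L.1 ||
        killedBy n (lk (enc n x)) (lk (enc n y)) (fun q => applyAll fuel st (lk (enc n v) q)) kills)) = true := h1
  rw [htests] at h1
  simp only [Bool.not_true, Bool.false_or, Bool.or_eq_true] at h1
  rcases h1 with h1 | h1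
  · have hfix : c ⟨L.1, hb⟩ = ⟨L.1, hb⟩ := Fin.ext (Nat.eq_of_beq_eq_true h1)
    exact conj_point_inj hn H fuel y y L Ls hok hc ht hcyc c 1 hcH H.one_mem hcy (by rw [one_mul, mul_one]) hb
      (by rw [hfix]; rfl)
  · exfalso
    rw [killedBy, List.any_eq_true] at h1
    obtain ⟨e, he, hne⟩ := h1
    rw [Bool.and_eq_true] at hne
    obtain ⟨hq, hne⟩ := hne
    have hq : e.2.2 < n := by simpa [Nat.blt] using hq
    have hcv : Acts (c⁻¹ * v) (fun q => applyAll fuel st (lk (enc n v) q)) := hact.mul (Acts.of_enc hn rfl)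
    have hacts := (acts_evalG (Acts.of_enc hn (rfl : enc n x = _)) (Acts.of_enc hn (rfl : enc n y = _)) hcv e.1).pow e.2.1
    refine hacts.ne_one hq ?_ (hrel e he)
    intro heq
    rw [heq, Nat.beq_refl] at hne
    exact absurd hne (by simp)

/-! ### elements from straight line programs -/

/-- the output of a straight line program, as an element of the subgroup -/
def outP {H : Subgroup (Equiv.Perm (Fin n))} (prog : List (ℕ × ℕ)) (gs : List ↥H) (i : ℕ) : ↥H :=
  (Cfsg.Agent.PG.runM prog gs).getD i 1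

theorem enc_outP (hn : n ≤ 4096) {H : Subgroup (Equiv.Perm (Fin n))} {gs : List ↥H} {cs : List ℕ}
    (h : RegsOK H gs cs) (prog : List (ℕ × ℕ)) (i : ℕ) :
    enc n (outP prog gs i).1 = (run n prog cs).getD i (pone n) :=
  (h.run hn).getD i

theorem out_three {prog : List (ℕ × ℕ)} {cs : List ℕ} {i j k a b c : ℕ}
    (h : runK n prog cs (fun r => [i, j, k].map fun t => r.getD t (pone n)) = [a, b, c]) :
    (run n prog cs).getD i (pone n) = a ∧ (run n prog cs).getD j (pone n) = b ∧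
      (run n prog cs).getD k (pone n) = c := by
  rw [runK_eq] at h
  simp only [List.map_cons, List.map_nil, List.cons.injEq, and_true] at h
  exact h

/-- the codes of three elements of a subgroup and of the outputs of a program on them -/
theorem codes_of_run (hn : n ≤ 4096) (H : Subgroup (Equiv.Perm (Fin n))) {x y w : Equiv.Perm (Fin n)}
    (hx : x ∈ H) (hy : y ∈ H) (hw : w ∈ H) {cx cy cw : ℕ} (ex : enc n x = cx) (ey : enc n y = cy)
    (ew : enc n w = cw) (prog : List (ℕ × ℕ)) (idx out : List ℕ)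
    (hrun : runK n prog [cw, cy, cx] (fun r => idx.map fun i => r.getD i (pone n)) = out) :
    ∀ c ∈ [cx, cy, cw] ++ out, ∃ g ∈ H, enc n g = c := by
  intro c hc
  rw [List.mem_append] at hc
  rcases hc with hc | hc
  · simp only [List.mem_cons, List.not_mem_nil, or_false] at hc
    rcases hc with rfl | rfl | rfl
    · exact ⟨x, hx, ex⟩
    · exact ⟨y, hy, ey⟩
    · exact ⟨w, hw, ew⟩
  · have hks : RegsOK H [⟨w, hw⟩, ⟨y, hy⟩, ⟨x, hx⟩] [cw, cy, cx] :=
      List.Forall₂.cons ew (List.Forall₂.cons ey (List.Forall₂.cons ex List.Forall₂.nil))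
    exact exists_of_run hn hks prog idx out hrun c hc

/-! ### the certificate -/

/-- the data and the checks for a permutation group `P` -/
structure OutSetup (n : ℕ) (P : Subgroup (Equiv.Perm (Fin n))) where
  hn : n ≤ 4096
  N : ℕ
  hN : Nat.card P = N
  fuel : ℕ
  p : ℕ
  hp : p.Prime
  hp2 : ¬ p ^ 2 ∣ N
  m : ℕ
  s : ℕ
  r₁ : ℕ
  hR : ∀ k < p, k ≠ 0 → ∃ j : ℕ, ∃ r ∈ ({1, r₁} : Finset ℕ), (k * m ^ j) % p = r % p
  hsolve : ∀ i < p, ∃ a : ℕ, (a + m * i) % p = (m * a) % p
  x : Equiv.Perm (Fin n)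
  y : Equiv.Perm (Fin n)
  w : Equiv.Perm (Fin n)
  hx : x ∈ P
  hy : y ∈ P
  hw : w ∈ P
  cx : ℕ
  cy : ℕ
  cw : ℕ
  cv : ℕ
  ex : enc n x = cx
  ey : enc n y = cy
  ew : enc n w = cw
  chk_cv : pinv n cw = cv
  q₀ : ℕ
  chk_x : (allB n fun q => Nat.beq ((lk cx)^[p] q) q) = true
  chk_x1 : (Nat.blt q₀ n && !Nat.beq (lk cx q₀) q₀) = true
  chk_yx : (allB n fun q => Nat.beq (lk cy (lk cx q)) ((lk cx)^[m] (lk cy q))) = true
  chk_wy : (allB n fun q => Nat.beq (lk cw (lk cy q)) ((lk cy)^[s] (lk cw q))) = true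
  codesA : List ℕ
  hA : ∀ c ∈ codesA, ∃ g ∈ Subgroup.closure {x, y, w}, enc n g = c
  LA : Level
  LsA : List Level
  chk_gensA : ((LA :: LsA).all fun L => L.2.1.all fun c => codesA.contains c) = true
  chk_treeA : treeOK n [] (LA :: LsA) = true
  chk_countsA : (treeCounts n fuel (LA :: LsA)).prod = N
  chk_cycA : baseCycle cx (LA :: LsA) = true
  tests : List ℕ
  chk_centX : (conjList n fuel cx cx tests (LA :: LsA)).length = p
  codesB : List ℕ
  hB : ∀ c ∈ codesB, ∃ g ∈ P, enc n g = c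
  LB : Level
  LsB : List Level
  chk_gensB : ((LB :: LsB).all fun L => L.2.1.all fun c => codesB.contains c) = true
  chk_treeB : treeOK n [] (LB :: LsB) = true
  chk_countsB : (treeCounts n fuel (LB :: LsB)).prod = N
  chk_cycB : baseCycle cy (LB :: LsB) = true
  kills : List (List ℕ × ℕ × ℕ)
  chk_rels : relsOK n (lk cx) (lk cy) (lk cv) kills = true
  testsB : List ℕ
  chk_kill : killOK n fuel cx cy cv LB.1 testsB (LB :: LsB) kills = true

theorem of_allB {k : ℕ} {f g : ℕ → ℕ} (h : allB k (fun q => Nat.beq (f q) (g q)) = true) : ∀ q < k, f q = g q :=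
  fun q hq => Nat.eq_of_beq_eq_true (allB_iff.1 h q hq)

theorem levels_of_codes (H : Subgroup (Equiv.Perm (Fin n))) (codes : List ℕ) (Ls : List Level)
    (hchk : (Ls.all fun L => L.2.1.all fun c => codes.contains c) = true)
    (h : ∀ c ∈ codes, ∃ g ∈ H, enc n g = c) : ∀ L ∈ Ls, ∀ c ∈ L.2.1, ∃ g ∈ H, enc n g = c := by
  intro L hL c hc
  rw [List.all_eq_true] at hchk
  have h1 := hchk L hL
  rw [List.all_eq_true] at h1
  have h2 := h1 c hc
  exact h c (List.contains_iff_mem.1 h2)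

/-- an element of `P` whose centraliser in `P` has at most as many elements as its order is self-centralising -/
theorem mem_zpowers_of_cent {P : Subgroup (Equiv.Perm (Fin n))} {g : Equiv.Perm (Fin n)} (hg : g ∈ P) {k : ℕ}
    (hk : orderOf g = k) (hle : {c : Equiv.Perm (Fin n) | c ∈ P ∧ c * g = g * c}.ncard ≤ k)
    {c : Equiv.Perm (Fin n)} (hc : c ∈ P) (hcg : c * g = g * c) : c ∈ Subgroup.zpowers g := by
  have hsub : (Subgroup.zpowers g : Set (Equiv.Perm (Fin n))) ⊆
      {c : Equiv.Perm (Fin n) | c ∈ P ∧ c * g = g * c} := by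
    intro d hd
    obtain ⟨j, rfl⟩ := Subgroup.mem_zpowers_iff.1 hd
    exact ⟨P.zpow_mem hg j, (Commute.zpow_self g j).eq⟩
  have hcard : (Subgroup.zpowers g : Set (Equiv.Perm (Fin n))).ncard = k := by
    rw [← hk, ← Nat.card_zpowers]
    rfl
  have heq := Set.eq_of_subset_of_ncard_le hsub (by rw [hcard]; exact hle) (Set.toFinite _)
  have : c ∈ {c : Equiv.Perm (Fin n) | c ∈ P ∧ c * g = g * c} := ⟨hc, hcg⟩
  rw [← heq] at this
  exact this

theorem zpowers_coe {P : Subgroup (Equiv.Perm (Fin n))} {g : ↥P} {c : ↥P} (h : c.1 ∈ Subgroup.zpowers g.1) :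
    c ∈ Subgroup.zpowers g := by
  obtain ⟨j, hj⟩ := Subgroup.mem_zpowers_iff.1 h
  rw [Subgroup.mem_zpowers_iff]
  exact ⟨j, Subtype.ext (by rw [Subgroup.coe_zpow]; exact hj)⟩

namespace OutSetup

variable {P : Subgroup (Equiv.Perm (Fin n))} (S : OutSetup n P)

theorem acts_x : Acts S.x (lk S.cx) := Acts.of_enc S.hn S.ex
theorem acts_y : Acts S.y (lk S.cy) := Acts.of_enc S.hn S.ey
theorem acts_w : Acts S.w (lk S.cw) := Acts.of_enc S.hn S.ew

theorem ev : enc n S.w⁻¹ = S.cv := by rw [← pinv_enc S.hn, S.ew, S.chk_cv]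

theorem acts_v : Acts S.w⁻¹ (lk S.cv) := Acts.of_enc S.hn S.ev

theorem x_pow : S.x ^ S.p = 1 := (S.acts_x.pow S.p).eq_one (of_allB S.chk_x)

theorem x_ne : S.x ≠ 1 := by
  have h := S.chk_x1
  rw [Bool.and_eq_true] at h
  obtain ⟨h1, h2⟩ := h
  have hq : S.q₀ < n := by simpa [Nat.blt] using h1
  apply S.acts_x.ne_one hq
  intro he
  rw [he, Nat.beq_refl] at h2
  exact absurd h2 (by simp)

theorem orderOf_x : orderOf S.x = S.p := by
  have : Fact S.p.Prime := ⟨S.hp⟩
  exact orderOf_eq_prime S.x_pow S.x_ne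

theorem yx : S.y * S.x = S.x ^ S.m * S.y :=
  (S.acts_y.mul S.acts_x).eq ((S.acts_x.pow S.m).mul S.acts_y) (of_allB S.chk_yx)

theorem wy : S.w * S.y = S.y ^ S.s * S.w :=
  (S.acts_w.mul S.acts_y).eq ((S.acts_y.pow S.s).mul S.acts_w) (of_allB S.chk_wy)

/-- the subgroup generated by `x`, `y`, `w` -/
def K : Subgroup (Equiv.Perm (Fin n)) := Subgroup.closure {S.x, S.y, S.w}

theorem K_le : S.K ≤ P := by
  rw [K, Subgroup.closure_le]
  intro g hg
  rcases hg with rfl | rfl | rfl
  · exact S.hx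
  · exact S.hy
  · exact S.hw

theorem hcA_K : ∀ L ∈ S.LA :: S.LsA, ∀ c ∈ L.2.1, ∃ g ∈ S.K, enc n g = c :=
  levels_of_codes S.K S.codesA _ S.chk_gensA S.hA

theorem card_K_ge : S.N ≤ Nat.card S.K := by
  have := tree_sound S.hn S.K S.fuel (S.LA :: S.LsA) [] S.chk_treeA S.hcA_K
  rw [fixer_nil, S.chk_countsA] at this
  exact this

theorem K_eq : S.K = P := by
  exact Subgroup.eq_of_le_of_card_ge S.K_le (by rw [S.hN]; exact S.card_K_ge)

theorem hcA : ∀ L ∈ S.LA :: S.LsA, ∀ c ∈ L.2.1, ∃ g ∈ P, enc n g = c := by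
  intro L hL c hc
  obtain ⟨g, hg, he⟩ := S.hcA_K L hL c hc
  exact ⟨g, S.K_le hg, he⟩

theorem hcB : ∀ L ∈ S.LB :: S.LsB, ∀ c ∈ L.2.1, ∃ g ∈ P, enc n g = c :=
  levels_of_codes P S.codesB _ S.chk_gensB S.hB

theorem cent_x_le : {c : Equiv.Perm (Fin n) | c ∈ P ∧ c * S.x = S.x * c}.ncard ≤ S.p := by
  have := ncard_conj_le S.hn P S.fuel S.x S.x S.tests (S.LA :: S.LsA) (List.cons_ne_nil _ _) S.chk_treeA S.hcA
    (by rw [S.chk_countsA, S.hN]) (by rw [S.ex]; exact S.chk_cycA)
  rw [S.ex, S.chk_centX] at this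
  exact this

/-- `x` in `P` -/
def xP : ↥P := ⟨S.x, S.hx⟩
/-- `y` in `P` -/
def yP : ↥P := ⟨S.y, S.hy⟩
/-- `w` in `P` -/
def wP : ↥P := ⟨S.w, S.hw⟩

theorem orderOf_xP : orderOf S.xP = S.p := by
  rw [← S.orderOf_x]
  exact (Subgroup.orderOf_coe S.xP).symm

theorem hCx : ∀ c : ↥P, c * S.xP = S.xP * c → c ∈ Subgroup.zpowers S.xP := by
  intro c hc
  apply zpowers_coe
  exact mem_zpowers_of_cent S.hx S.orderOf_x S.cent_x_le c.2 (congrArg Subtype.val hc)

theorem hyP : S.yP * S.xP * S.yP⁻¹ = S.xP ^ S.m := by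
  apply Subtype.ext
  show S.y * S.x * S.y⁻¹ = S.x ^ S.m
  rw [S.yx, mul_inv_cancel_right]

theorem hwP : S.wP * S.yP * S.wP⁻¹ = S.yP ^ S.s := by
  apply Subtype.ext
  show S.w * S.y * S.w⁻¹ = S.y ^ S.s
  rw [S.wy, mul_inv_cancel_right]

theorem hgenP : Subgroup.closure {S.xP, S.yP, S.wP} = (⊤ : Subgroup ↥P) := by
  apply Subgroup.map_injective P.subtype_injective
  rw [MonoidHom.map_closure, ← MonoidHom.range_eq_map, Subgroup.range_subtype]
  have : (P.subtype '' {S.xP, S.yP, S.wP} : Set (Equiv.Perm (Fin n))) = {S.x, S.y, S.w} := by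
    rw [Set.image_insert_eq, Set.image_insert_eq, Set.image_singleton]
    rfl
  rw [this]
  exact S.K_eq

theorem coe_evalG (a b c : ↥P) (u : List ℕ) : ((evalG a b c u : ↥P) : Equiv.Perm (Fin n)) = evalG a.1 b.1 c.1 u :=
  map_evalG P.subtype a b c u

theorem hkill : ∀ c : ↥P, c * S.yP = S.yP * c →
    (∃ β : MulAut ↥P, β S.xP = S.xP ∧ β S.yP = S.yP ∧ β S.wP = S.wP * c) → c = 1 := by
  intro c hc ⟨β, hβx, hβy, hβw⟩
  have hrel0 := rels_of_relsOK S.acts_x S.acts_y S.acts_v S.chk_rels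
  apply Subtype.ext
  refine eq_one_of_killOK S.hn P S.fuel S.x S.y S.w⁻¹ S.ex S.ey S.ev S.LB S.LsB S.chk_treeB S.hcB
    (by rw [S.chk_countsB, S.hN]) S.chk_cycB S.testsB S.kills S.chk_kill c.1 c.2 (congrArg Subtype.val hc) ?_
  intro e he
  have h1 : evalG S.xP S.yP S.wP⁻¹ e.1 ^ e.2.1 = 1 := by
    apply Subtype.ext
    rw [Subgroup.coe_pow, coe_evalG]
    exact hrel0 e he
  have h2 := congrArg β h1
  have hm : β (evalG S.xP S.yP S.wP⁻¹ e.1) = evalG (β S.xP) (β S.yP) (β S.wP⁻¹) e.1 :=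
    map_evalG β.toMonoidHom _ _ _ _
  have h5 : β S.wP⁻¹ = c⁻¹ * S.wP⁻¹ := by rw [map_inv, hβw, mul_inv_rev]
  rw [map_pow, map_one, hm, hβx, hβy, h5] at h2
  have h6 := congrArg Subtype.val h2
  rw [Subgroup.coe_pow, coe_evalG] at h6
  exact h6

/-- **The outer automorphism group of `P` has order two**, if some automorphism maps `x` to an element that is not
conjugate to `x`. -/
theorem card_out_two (σ : MulAut ↥P) (x' : Equiv.Perm (Fin n)) (hσ : (σ S.xP).1 = x') (cx' : ℕ)
    (ex' : enc n x' = cx') (chk : conjList n S.fuel S.cx cx' S.tests (S.LA :: S.LsA) = []) :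
    Nat.card (Cfsg.Out ↥P) = 2 := by
  have : Fact S.p.Prime := ⟨S.hp⟩
  refine PChain.card_out_eq_two S.p (by rw [S.hN]; exact S.hp2) S.xP S.yP S.wP S.orderOf_xP S.hCx S.m S.hyP S.r₁
    S.hR S.hsolve S.s S.hwP S.hgenP S.hkill σ ?_
  intro h hh
  have h1 : σ S.xP = h * S.xP * h⁻¹ := by rw [hh, MulAut.conj_apply]
  have h2 : x' = h.1 * S.x * h.1⁻¹ := by
    rw [← hσ, h1]
    rfl
  have h3 : h.1 * S.x = x' * h.1 := by rw [h2, inv_mul_cancel_right]
  have hle := ncard_conj_le S.hn P S.fuel S.x x' S.tests (S.LA :: S.LsA) (List.cons_ne_nil _ _) S.chk_treeA S.hcA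
    (by rw [S.chk_countsA, S.hN]) (by rw [S.ex]; exact S.chk_cycA)
  rw [S.ex, ex', chk, List.length_nil, Nat.le_zero, Set.ncard_eq_zero (Set.toFinite _)] at hle
  have : h.1 ∈ {c : Equiv.Perm (Fin n) | c ∈ P ∧ c * S.x = x' * c} := ⟨h.2, h3⟩
  rw [hle] at this
  exact this

end OutSetup

end Cfsg.Agent.PL
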