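import Cfsg.Agent.Lib.Lead.PL.Pk

/-!
# Pointwise evaluation of words in permutations given by codes

`Acts g f` says that the permutation `g` of `Fin n` maps the point `q` to `f q`.  Products and powers of such
permutations are evaluated at single points by lookups in the codes, without multiplying any codes.
-/

set_option autoImplicit false

namespace Cfsg.Agent.PL

variable {n : ℕ}

/-- the permutation `g` maps `q` to `f q` -/
def Acts (g : Equiv.Perm (Fin n)) (f : ℕ → ℕ) : Prop := ∀ (q : ℕ) (hq : q < n), ((g ⟨q, hq⟩ : Fin n) : ℕ) = f q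

theorem Acts.of_enc (hn : n ≤ 4096) {g : Equiv.Perm (Fin n)} {c : ℕ} (h : enc n g = c) : Acts g (lk c) := by
  intro q hq
  rw [← h, lk_enc_fin hn g ⟨q, hq⟩]

theorem Acts.lt {g : Equiv.Perm (Fin n)} {f : ℕ → ℕ} (h : Acts g f) {q : ℕ} (hq : q < n) : f q < n := by
  rw [← h q hq]; exact (g ⟨q, hq⟩).2

theorem Acts.one : Acts (1 : Equiv.Perm (Fin n)) id := fun _ _ => rfl

theorem Acts.mul {g h : Equiv.Perm (Fin n)} {f k : ℕ → ℕ} (hg : Acts g f) (hh : Acts h k) :
    Acts (g * h) (fun q => f (k q)) := by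
  intro q hq
  show ((g (h ⟨q, hq⟩) : Fin n) : ℕ) = f (k q)
  rw [← hh q hq]
  exact hg _ (h ⟨q, hq⟩).2

theorem Acts.pow {g : Equiv.Perm (Fin n)} {f : ℕ → ℕ} (hg : Acts g f) : ∀ k : ℕ, Acts (g ^ k) (f^[k])
  | 0 => by rw [pow_zero]; exact Acts.one
  | k + 1 => by
    rw [pow_succ]
    have := (Acts.pow hg k).mul hg
    intro q hq
    rw [this q hq, Function.iterate_succ_apply]

theorem Acts.eq {g h : Equiv.Perm (Fin n)} {f k : ℕ → ℕ} (hg : Acts g f) (hh : Acts h k)
    (hfk : ∀ q < n, f q = k q) : g = h := by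
  refine Equiv.ext fun i => Fin.ext ?_
  rw [hg i.val i.2, hh i.val i.2, hfk i.val i.2]

theorem Acts.eq_one {g : Equiv.Perm (Fin n)} {f : ℕ → ℕ} (hg : Acts g f) (hf : ∀ q < n, f q = q) : g = 1 :=
  hg.eq Acts.one hf

theorem Acts.ne_one {g : Equiv.Perm (Fin n)} {f : ℕ → ℕ} (hg : Acts g f) {q : ℕ} (hq : q < n) (hf : f q ≠ q) :
    g ≠ 1 := by
  intro h
  apply hf
  rw [← hg q hq, h]
  rfl

end Cfsg.Agent.PL
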