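import Cfsg.Agent.Lib.Lead.PL.Conj
import Cfsg.Agent.Lib.Lead.PL.Acts

/-!
# The elements conjugating one permutation to another, point by point

The sifting of `PL.Conj` determines, for every element `c` of `H` with `c x = x' c`, a list of steps (paths in the trees
of a tight chain) whose composition is `c⁻¹`.  So the inverse of each such `c` can be evaluated at single points by
lookups, without computing any product of codes; and `c` is determined by the image of the first base point.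
-/

set_option autoImplicit false

namespace Cfsg.Agent.PL

open Cfsg.Agent.PG (fixer mem_fixer fixer_nil mem_fixer_cons fixer_mono strict strict_eq)

/-- the steps of the sifting of the candidate `p` for the image of the current base point -/
def conjSteps (fuel cx' : ℕ) : List Step → ℕ → List Level → Option (List Step)
  | st, p, L :: Ls =>
    strict (applyAll fuel st p) fun t =>
      cond (traceTo L.2.1 L.2.2 L.1 fuel t)
        (conjSteps fuel cx' (st ++ [(L.1, L.2.1, L.2.2, t)]) (lk cx' p) Ls) none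
  | st, _, [] => some st

variable {n : ℕ}

theorem conjSteps_of_mem (hn : n ≤ 4096) (H : Subgroup (Equiv.Perm (Fin n))) (fuel : ℕ)
    (x x' c : Equiv.Perm (Fin n)) (hcx : c * x = x' * c) :
    ∀ (Ls : List Level) (fixed : List ℕ) (st : List Step) (p : ℕ) (W : Equiv.Perm (Fin n)),
      treeOK n fixed Ls = true → (∀ L ∈ Ls, ∀ c ∈ L.2.1, ∃ g ∈ H, enc n g = c) →
      Nat.card (fixer H fixed) ≤ (treeCounts n fuel Ls).prod →
      baseCycle (enc n x) Ls = true →
      (∀ (q : ℕ) (hq : q < n), ((W ⟨q, hq⟩ : Fin n) : ℕ) = applyAll fuel st q) →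
      W * c ∈ fixer H fixed →
      (∀ L Ls', Ls = L :: Ls' → ∀ hb : L.1 < n, ((c ⟨L.1, hb⟩ : Fin n) : ℕ) = p) →
      ∃ st', conjSteps fuel (enc n x') st p Ls = some st' ∧ Acts c⁻¹ (applyAll fuel st') := by
  intro Ls
  induction Ls with
  | nil =>
    intro fixed st p W _ _ ht _ hW hWc _
    rw [treeCounts, List.map_nil, List.prod_nil] at ht
    have hbot : fixer H fixed = ⊥ := (Subgroup.card_le_one_iff_eq_bot _).1 ht
    rw [hbot, Subgroup.mem_bot] at hWc
    refine ⟨st, rfl, ?_⟩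
    have hW' : W = c⁻¹ := eq_inv_of_mul_eq_one_left hWc
    rw [← hW']
    exact hW
  | cons L Ls ih =>
    intro fixed st p W hok hc ht hcyc hW hWc hp
    obtain ⟨hb, hg, horb, hcard⟩ := level_step hn H fuel fixed L Ls hok hc ht
    obtain ⟨-, -, hrest⟩ := treeOK_cons hok
    have hpb : ((c ⟨L.1, hb⟩ : Fin n) : ℕ) = p := hp L Ls rfl hb
    rw [conjSteps, strict_eq]
    have ht1 : applyAll fuel st p = (((W * c) ⟨L.1, hb⟩ : Fin n) : ℕ) := by
      rw [Equiv.Perm.mul_apply, hW _ (c ⟨L.1, hb⟩).2, hpb]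
    have htm := horb (W * c) hWc
    rw [← ht1, mem_orbitL] at htm
    obtain ⟨htn, htr⟩ := htm
    rw [htr, cond_true]
    obtain ⟨w, hwK, hw1, hw2⟩ := trace_sound hn (fixer H fixed) L.2.1 hg L.2.2 L.1 fuel _ htn htr
    apply ih (L.1 :: fixed) _ _ (w * W) hrest (fun L' hL' => hc L' (List.mem_cons_of_mem _ hL')) hcard
    · cases Ls with
      | nil => rfl
      | cons L' Ls' =>
        rw [baseCycle, Bool.and_eq_true] at hcyc
        exact hcyc.2
    · intro q hq
      rw [applyAll_append, Equiv.Perm.mul_apply, hw1 _ (W ⟨q, hq⟩).2, hW q hq]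
    · rw [mem_fixer_cons hb, mul_assoc]
      refine ⟨(fixer H fixed).mul_mem hwK hWc, ?_⟩
      apply Fin.ext
      rw [Equiv.Perm.mul_apply, hw1 _ ((W * c) ⟨L.1, hb⟩).2, ← ht1]
      exact hw2
    · intro L' Ls' hLs hb'
      subst hLs
      rw [baseCycle, Bool.and_eq_true] at hcyc
      have hnext : lk (enc n x) L.1 = L'.1 := Nat.eq_of_beq_eq_true hcyc.1
      rw [lk_enc_fin hn x ⟨L.1, hb⟩] at hnext
      have e : (⟨L'.1, hb'⟩ : Fin n) = x ⟨L.1, hb⟩ := Fin.ext hnext.symm
      rw [e, ← hpb, ← Equiv.Perm.mul_apply, hcx, Equiv.Perm.mul_apply, lk_enc_fin hn x' (c ⟨L.1, hb⟩)]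

/-- **Every `c` in `H` with `c x = x' c` is the inverse of the composition of the steps of the sifting of the image of the
first base point.** -/
theorem exists_conjSteps (hn : n ≤ 4096) (H : Subgroup (Equiv.Perm (Fin n))) (fuel : ℕ)
    (x x' : Equiv.Perm (Fin n)) (L : Level) (Ls : List Level)
    (hok : treeOK n [] (L :: Ls) = true) (hc : ∀ L' ∈ L :: Ls, ∀ c ∈ L'.2.1, ∃ g ∈ H, enc n g = c)
    (ht : Nat.card H ≤ (treeCounts n fuel (L :: Ls)).prod) (hcyc : baseCycle (enc n x) (L :: Ls) = true)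
    (c : Equiv.Perm (Fin n)) (hcH : c ∈ H) (hcx : c * x = x' * c) :
    ∃ hb : L.1 < n, ((c ⟨L.1, hb⟩ : Fin n) : ℕ) ∈ orbitL n L.2.1 L.2.2 L.1 fuel ∧
      ∃ st, conjSteps fuel (enc n x') [] ((c ⟨L.1, hb⟩ : Fin n) : ℕ) (L :: Ls) = some st ∧
        Acts c⁻¹ (applyAll fuel st) := by
  have ht' : Nat.card (fixer H []) ≤ (treeCounts n fuel (L :: Ls)).prod := by rw [fixer_nil]; exact ht
  obtain ⟨hb, -, horb, -⟩ := level_step hn H fuel [] L Ls hok hc ht'
  refine ⟨hb, horb c (by rw [fixer_nil]; exact hcH), ?_⟩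
  apply conjSteps_of_mem hn H fuel x x' c hcx (L :: Ls) [] [] _ 1 hok hc ht' hcyc
  · intro q hq; rfl
  · rw [one_mul, fixer_nil]; exact hcH
  · intro L' Ls' hLs hb'
    injection hLs with h1 h2
    subst h1
    rfl

/-- an element `c` of `H` with `c x = x' c` is determined by the image of the first base point -/
theorem conj_point_inj (hn : n ≤ 4096) (H : Subgroup (Equiv.Perm (Fin n))) (fuel : ℕ)
    (x x' : Equiv.Perm (Fin n)) (L : Level) (Ls : List Level)
    (hok : treeOK n [] (L :: Ls) = true) (hc : ∀ L' ∈ L :: Ls, ∀ c ∈ L'.2.1, ∃ g ∈ H, enc n g = c)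
    (ht : Nat.card H ≤ (treeCounts n fuel (L :: Ls)).prod) (hcyc : baseCycle (enc n x) (L :: Ls) = true)
    (c d : Equiv.Perm (Fin n)) (hcH : c ∈ H) (hdH : d ∈ H) (hcx : c * x = x' * c) (hdx : d * x = x' * d)
    (hb : L.1 < n) (hcd : c ⟨L.1, hb⟩ = d ⟨L.1, hb⟩) : c = d := by
  have ht' : Nat.card (fixer H []) ≤ (treeCounts n fuel (L :: Ls)).prod := by rw [fixer_nil]; exact ht
  have hlt := treeOK_lt (L :: Ls) [] hok
  have hex : (d⁻¹ * c) * x = x * (d⁻¹ * c) := by
    have h1 : d⁻¹ * x' = x * d⁻¹ := by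
      have := congrArg (fun z => d⁻¹ * z * d⁻¹) hdx
      simp only [mul_assoc, mul_inv_cancel, mul_one] at this
      rw [← mul_assoc, ← mul_assoc, inv_mul_cancel, one_mul] at this
      exact this.symm
    rw [mul_assoc, hcx, ← mul_assoc, h1, mul_assoc]
  have hfix0 : ∀ hb' : L.1 < n, (d⁻¹ * c) ⟨L.1, hb'⟩ = ⟨L.1, hb'⟩ := by
    intro _
    rw [Equiv.Perm.mul_apply, hcd]
    exact Equiv.symm_apply_apply d _
  have hall := fixes_of_cycle hn x (d⁻¹ * c) hex L Ls hcyc hlt hfix0
  have hone := eq_one_of_fixes hn H fuel (L :: Ls) [] hok hc ht' (d⁻¹ * c)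
    (by rw [fixer_nil]; exact H.mul_mem (H.inv_mem hdH) hcH) hall
  exact inv_mul_eq_one.1 hone |>.symm

end Cfsg.Agent.PL
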