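import Cfsg.Agent.Lib.Helper6.SimpWPC
import Cfsg.Agent.Lib.Helper6.T3Gen
import Cfsg.Agent.Lib.Lead.PL.Regs

/-!
# Groups presented on involutions with a coset table: codes of the generators and graph automorphisms

For a group presented by a labelled graph and further relators, with a verified complete coset table on at most 4096
rows, the permutations of the generators have codes that are read off the columns of the table.  A symmetry of the graph
that maps the further relators to words acting trivially on the rows gives an automorphism of the group, provided that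
the action on the rows is faithful.
-/

set_option autoImplicit false

noncomputable section

namespace Cfsg.Agent.PL.Cox

open Cfsg.Spor Cfsg.Agent.Lib.Helper6 Cfsg.Agent.Lib.Helper6.TC
open Cfsg.Agent.PG (allB allB_iff runM map_runM)

/-! ### graph automorphisms -/

section graph

variable {α : Type} [DecidableEq α] {edges : List (α × ℕ × α)} {extra : List (FreeGroup α)}

/-- **A symmetry of the graph that respects the further relators gives an automorphism.** -/
theorem exists_graph_aut (sw : α → α) (hsw : ∀ a, sw (sw a) = a)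
    (hnodes : ∀ a ∈ coxNodes edges, sw a ∈ coxNodes edges)
    (hlabel : ∀ a ∈ coxNodes edges, ∀ b ∈ coxNodes edges,
      coxLabel edges (sw a) (sw b) = coxLabel edges a b)
    (hextra : ∀ r ∈ extra,
      FreeGroup.lift (fun a => (PresentedGroup.of (sw a) : CoxPresented α edges extra)) r = 1) :
    ∃ σ : MulAut (CoxPresented α edges extra), ∀ a, σ (PresentedGroup.of a) = PresentedGroup.of (sw a) := by
  have hrel : ∀ r ∈ coxRelators edges ∪ {r | r ∈ extra},
      FreeGroup.lift (fun a => (PresentedGroup.of (sw a) : CoxPresented α edges extra)) r = 1 := by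
    rintro r (⟨a, ha, b, hb, rfl⟩ | hr)
    · rw [map_pow, map_mul, FreeGroup.lift_apply_of, FreeGroup.lift_apply_of, ← hlabel a ha b hb]
      have hm : (FreeGroup.of (sw a) * FreeGroup.of (sw b)) ^ coxLabel edges (sw a) (sw b) ∈
          coxRelators edges ∪ {r | r ∈ extra} := Or.inl ⟨sw a, hnodes a ha, sw b, hnodes b hb, rfl⟩
      have := PresentedGroup.one_of_mem hm
      rw [map_pow, map_mul] at this
      exact this
    · exact hextra r hr
  let φ : CoxPresented α edges extra →* CoxPresented α edges extra := PresentedGroup.toGroup hrel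
  have hφ : ∀ a, φ (PresentedGroup.of a) = PresentedGroup.of (sw a) := fun a => PresentedGroup.toGroup.of hrel
  have hφφ : φ.comp φ = MonoidHom.id _ := by
    apply PresentedGroup.ext
    intro a
    rw [MonoidHom.comp_apply, hφ, hφ, hsw]
    rfl
  exact ⟨MonoidHom.toMulEquiv φ φ hφφ hφφ, hφ⟩

end graph

/-! ### the permutation group of a coset table -/

section table

variable {α : Type} [DecidableEq α] {edges : List (α × ℕ × α)} {extra : List (FreeGroup α)}
  {S : Set (FreeGroup α)} (D : CoxData edges extra S)

/-- the check of the code of a column of the table -/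
def colOK (T : Tab) (x c : ℕ) : Bool :=
  Nat.blt x T.g && (Nat.blt c (4096 ^ T.n) && allB T.n fun a => Nat.beq (lk c a) (T.nxt a x))

/-- the check of the codes of several columns -/
def colsOK (T : Tab) : List ℕ → List ℕ → Bool
  | x :: l, c :: cs => colOK T x c && colsOK T l cs
  | [], [] => true
  | _, _ => false

theorem lt_of_colOK {T : Tab} {x c : ℕ} (h : colOK T x c = true) : x < T.g := by
  rw [colOK, Bool.and_eq_true] at h
  simpa [Nat.blt] using h.1

theorem enc_perm (hn : D.T.n ≤ 4096) {x c : ℕ} (h : colOK D.T x c = true) :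
    x < D.T.g ∧ enc D.T.n (D.T.perm D.chk_tab x) = c := by
  rw [colOK, Bool.and_eq_true, Bool.and_eq_true] at h
  obtain ⟨h1, h2, h3⟩ := h
  have hx : x < D.T.g := by simpa [Nat.blt] using h1
  have hc : c < 4096 ^ D.T.n := by simpa [Nat.blt] using h2
  refine ⟨hx, eq_of_lk (enc_lt hn _) hc ?_⟩
  intro i hi
  rw [lk_enc_fin hn _ ⟨i, hi⟩, D.T.perm_apply D.chk_tab hx]
  exact (Nat.eq_of_beq_eq_true (allB_iff.1 h3 i hi)).symm

/-- the permutation group on the rows -/
def P : Subgroup (Equiv.Perm (Fin D.T.n)) := D.cert.ρ.range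

/-- the permutation of a generator, in the permutation group -/
def genP (x : ℕ) : ↥(P D) := ⟨D.cert.ρ (PresentedGroup.of (D.gen x)), ⟨_, rfl⟩⟩

theorem enc_genP (hn : D.T.n ≤ 4096) {x c : ℕ} (h : colOK D.T x c = true) : enc D.T.n (genP D x).1 = c := by
  obtain ⟨hx, he⟩ := enc_perm D hn h
  rw [← he]
  congr 1
  exact Simp.ρ_of_gen D (by rw [← D.hTg]; exact hx)

/-- the registers of the generators -/
def regs (l : List ℕ) : List ↥(P D) := l.map (genP D)

theorem regs_ok (hn : D.T.n ≤ 4096) : ∀ (l cs : List ℕ), colsOK D.T l cs = true → RegsOK (P D) (regs D l) cs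
  | [], [], _ => List.Forall₂.nil
  | [], _ :: _, h => by simp [colsOK] at h
  | _ :: _, [], h => by simp [colsOK] at h
  | x :: l, c :: cs, h => by
    rw [colsOK, Bool.and_eq_true] at h
    exact List.Forall₂.cons (enc_genP D hn h.1) (regs_ok hn l cs h.2)

theorem lt_of_colsOK : ∀ (l cs : List ℕ), colsOK D.T l cs = true → ∀ x ∈ l, x < D.T.g
  | [], _, _ => fun x hx => absurd hx List.not_mem_nil
  | _ :: _, [], h => by simp [colsOK] at h
  | x :: l, c :: cs, h => by
    rw [colsOK, Bool.and_eq_true] at h
    intro z hz
    rcases List.mem_cons.1 hz with rfl | hz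
    · exact lt_of_colOK h.1
    · exact lt_of_colsOK l cs h.2 z hz

/-! ### faithful actions -/

variable (hinj : Function.Injective D.cert.ρ)

/-- the isomorphism onto the permutation group -/
def iso : CoxPresented α edges extra ≃* ↥(P D) := MonoidHom.ofInjective hinj

theorem iso_of (x : ℕ) : iso D hinj (PresentedGroup.of (D.gen x)) = genP D x := rfl

include hinj in
theorem card_P {N : ℕ} (h : Nat.card (CoxPresented α edges extra) = N) : Nat.card ↥(P D) = N := by
  rw [← h]
  exact (Nat.card_congr (iso D hinj).toEquiv).symm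

include hinj in
/-- a word that fixes all the rows is trivial -/
theorem wordG_eq_one {w : List ℕ} (hl : ∀ x ∈ w, x < D.T.g) (h : ∀ c < D.T.n, D.T.trace c w.reverse = c) :
    Simp.wordG D w = 1 := by
  apply hinj
  rw [map_one]
  refine Equiv.ext fun c => Fin.ext ?_
  rw [SimpWPC.ρ_wordG_apply D hl c.1 c.2, h c.1 c.2]
  rfl

/-- the check of a symmetry of the generators: it preserves the generators, and the images of the words act trivially -/
def symOK (T : Tab) (swI : ℕ → ℕ) (ws : List (List ℕ)) : Bool :=
  (allB T.g fun x => Nat.blt (swI x) T.g) &&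
    ws.all fun w => (w.all fun x => Nat.blt x T.g) &&
      allB T.n fun a => Nat.beq (T.trace a (w.map swI).reverse) a

include hinj in
theorem hextra_of_symOK (sw : α → α) (swI : ℕ → ℕ) (hswI : ∀ x < D.T.g, D.gen (swI x) = sw (D.gen x))
    (h : symOK D.T swI D.extraWords = true) :
    ∀ r ∈ extra, FreeGroup.lift (fun a => (PresentedGroup.of (sw a) : CoxPresented α edges extra)) r = 1 := by
  rw [symOK, Bool.and_eq_true] at h
  obtain ⟨h1, h2⟩ := h
  have hlt : ∀ x < D.T.g, swI x < D.T.g := by
    intro x hx
    have := allB_iff.1 h1 x hx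
    simpa [Nat.blt] using this
  apply (D.hextra (fun a => (PresentedGroup.of (sw a) : CoxPresented α edges extra))
    (fun a => SimpWPC.of_mul_self D (sw a))).2
  intro w hw
  have h3 := List.all_eq_true.1 h2 w hw
  rw [Bool.and_eq_true] at h3
  obtain ⟨h4, h5⟩ := h3
  have hw' : ∀ x ∈ w, x < D.T.g := by
    intro x hx
    have := List.all_eq_true.1 h4 x hx
    simpa [Nat.blt] using this
  have e : (w.map fun x => (PresentedGroup.of (sw (D.gen x)) : CoxPresented α edges extra)) =
      (w.map swI).map fun y => (PresentedGroup.of (D.gen y) : CoxPresented α edges extra) := by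
    rw [List.map_map]
    apply List.map_congr_left
    intro x hx
    show _ = PresentedGroup.of (D.gen (swI x))
    rw [hswI x (hw' x hx)]
  rw [e]
  apply wordG_eq_one D hinj
  · intro y hy
    obtain ⟨x, hx, rfl⟩ := List.mem_map.1 hy
    exact hlt x (hw' x hx)
  · intro c hc
    exact Nat.eq_of_beq_eq_true (allB_iff.1 h5 c hc)

include hinj in
/-- **The automorphism of the permutation group given by a symmetry of the graph.** -/
theorem exists_aut_P (sw : α → α) (hsw : ∀ a, sw (sw a) = a)
    (hnodes : ∀ a ∈ coxNodes edges, sw a ∈ coxNodes edges)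
    (hlabel : ∀ a ∈ coxNodes edges, ∀ b ∈ coxNodes edges,
      coxLabel edges (sw a) (sw b) = coxLabel edges a b)
    (swI : ℕ → ℕ) (hswI : ∀ x < D.T.g, D.gen (swI x) = sw (D.gen x))
    (h : symOK D.T swI D.extraWords = true) :
    ∃ σ : MulAut ↥(P D), ∀ x < D.T.g, σ (genP D x) = genP D (swI x) := by
  obtain ⟨σG, hσG⟩ := exists_graph_aut sw hsw hnodes hlabel (hextra_of_symOK D hinj sw swI hswI h)
  refine ⟨((iso D hinj).symm.trans σG).trans (iso D hinj), ?_⟩
  intro x hx
  show iso D hinj (σG ((iso D hinj).symm (genP D x))) = genP D (swI x)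
  rw [← iso_of D hinj x, MulEquiv.symm_apply_apply, hσG, ← hswI x hx]
  rfl

/-- the image of an output of a straight line program under the automorphism -/
theorem map_out (σ : MulAut ↥(P D)) (swI : ℕ → ℕ) (hσ : ∀ x < D.T.g, σ (genP D x) = genP D (swI x))
    (l : List ℕ) (hl : ∀ x ∈ l, x < D.T.g) (prog : List (ℕ × ℕ)) (i : ℕ) :
    σ ((runM prog (regs D l)).getD i 1) = (runM prog (regs D (l.map swI))).getD i 1 := by
  have h1 : (regs D l).map σ.toMonoidHom = regs D (l.map swI) := by
    rw [regs, regs, List.map_map, List.map_map]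
    apply List.map_congr_left
    intro x hx
    exact hσ x (hl x hx)
  rw [← h1, ← map_runM σ.toMonoidHom prog (regs D l)]
  have h2 : (1 : ↥(P D)) = σ.toMonoidHom 1 := (map_one _).symm
  conv_rhs => rw [h2, List.getD_map]
  rfl

end table

end Cfsg.Agent.PL.Cox

end
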