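import Cfsg.Agent.Lib.Lead.PL.Tree

/-!
# Counting the elements of a group that conjugate one permutation to another

Let `H` have a tight chain of trees whose base points follow a cycle of `x`: `b₀, x b₀, x² b₀, …`.  An element `c` of
`H` with `c x = x' c` is determined by the point `c b₀`, since `c (xⁱ b₀) = x'ⁱ (c b₀)`.  For each candidate `p` for
`c b₀` the test sifts the required images through the chain, using only the trees, and then checks the equation at a few
test points.  The number of candidates that survive bounds the number of such `c`.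
-/

set_option autoImplicit false

namespace Cfsg.Agent.PL

open Cfsg.Agent.PG (fixer mem_fixer fixer_nil mem_fixer_cons fixer_mono strict strict_eq)

/-- a step of the sifting: a level together with the point whose path is applied -/
abbrev Step : Type := ℕ × List ℕ × ℕ × ℕ

/-- apply the paths of the steps, the first one first -/
def applyAll (fuel : ℕ) : List Step → ℕ → ℕ
  | [], q => q
  | s :: st, q => applyAll fuel st (applyPath s.2.1 s.2.2.1 s.1 fuel s.2.2.2 q)

theorem applyAll_append (fuel : ℕ) : ∀ (st : List Step) (s : Step) (q : ℕ),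
    applyAll fuel (st ++ [s]) q = applyPath s.2.1 s.2.2.1 s.1 fuel s.2.2.2 (applyAll fuel st q)
  | [], _, _ => rfl
  | s' :: st, s, q => by
    rw [List.cons_append, applyAll, applyAll, applyAll_append fuel st s]

/-- the base points follow a cycle of the permutation with code `cx` -/
def baseCycle (cx : ℕ) : List Level → Bool
  | L :: L' :: Ls => Nat.beq (lk cx L.1) L'.1 && baseCycle cx (L' :: Ls)
  | _ => true

/-- the test of a candidate `p` for the image of the current base point -/
def conjOK (n fuel cx cx' : ℕ) (tests : List ℕ) : List Step → ℕ → List Level → Bool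
  | st, p, L :: Ls =>
    strict (applyAll fuel st p) fun t =>
      cond (traceTo L.2.1 L.2.2 L.1 fuel t)
        (conjOK n fuel cx cx' tests (st ++ [(L.1, L.2.1, L.2.2, t)]) (lk cx' p) Ls) false
  | st, _, [] =>
    tests.all fun i => cond (Nat.blt i n) (Nat.beq (lk cx (applyAll fuel st i)) (applyAll fuel st (lk cx' i))) true

variable {n : ℕ}

/-- an element fixing all base points of a tight chain of trees is trivial -/
theorem eq_one_of_fixes (hn : n ≤ 4096) (H : Subgroup (Equiv.Perm (Fin n))) (fuel : ℕ) :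
    ∀ (Ls : List Level) (fixed : List ℕ), treeOK n fixed Ls = true →
      (∀ L ∈ Ls, ∀ c ∈ L.2.1, ∃ g ∈ H, enc n g = c) →
      Nat.card (fixer H fixed) ≤ (treeCounts n fuel Ls).prod →
      ∀ g ∈ fixer H fixed, (∀ L ∈ Ls, ∀ hb : L.1 < n, g ⟨L.1, hb⟩ = ⟨L.1, hb⟩) → g = 1 := by
  intro Ls
  induction Ls with
  | nil =>
    intro fixed _ _ ht g hg _
    rw [treeCounts, List.map_nil, List.prod_nil] at ht
    have hfin : Finite ↥(fixer H fixed) := Nat.finite_of_card_ne_zero (Nat.card_pos.ne')
    have hbot : fixer H fixed = ⊥ := (Subgroup.card_le_one_iff_eq_bot _).1 ht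
    rw [hbot, Subgroup.mem_bot] at hg
    exact hg
  | cons L Ls ih =>
    intro fixed hok hc ht g hg hfix
    obtain ⟨hb, -, -, hcard⟩ := level_step hn H fuel fixed L Ls hok hc ht
    obtain ⟨-, -, hrest⟩ := treeOK_cons hok
    apply ih (L.1 :: fixed) hrest (fun L' hL' => hc L' (List.mem_cons_of_mem _ hL')) hcard g
    · rw [mem_fixer_cons hb]
      exact ⟨hg, hfix L List.mem_cons_self hb⟩
    · intro L' hL' hb'
      exact hfix L' (List.mem_cons_of_mem _ hL') hb'

theorem conjOK_of_mem (hn : n ≤ 4096) (H : Subgroup (Equiv.Perm (Fin n))) (fuel : ℕ)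
    (x x' c : Equiv.Perm (Fin n)) (hcx : c * x = x' * c) (tests : List ℕ) :
    ∀ (Ls : List Level) (fixed : List ℕ) (st : List Step) (p : ℕ) (W : Equiv.Perm (Fin n)),
      treeOK n fixed Ls = true → (∀ L ∈ Ls, ∀ c ∈ L.2.1, ∃ g ∈ H, enc n g = c) →
      Nat.card (fixer H fixed) ≤ (treeCounts n fuel Ls).prod →
      baseCycle (enc n x) Ls = true →
      (∀ (q : ℕ) (hq : q < n), ((W ⟨q, hq⟩ : Fin n) : ℕ) = applyAll fuel st q) →
      W * c ∈ fixer H fixed →
      (∀ L Ls', Ls = L :: Ls' → ∀ hb : L.1 < n, ((c ⟨L.1, hb⟩ : Fin n) : ℕ) = p) →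
      conjOK n fuel (enc n x) (enc n x') tests st p Ls = true := by
  intro Ls
  induction Ls with
  | nil =>
    intro fixed st p W _ _ ht _ hW hWc _
    rw [treeCounts, List.map_nil, List.prod_nil] at ht
    have hbot : fixer H fixed = ⊥ := (Subgroup.card_le_one_iff_eq_bot _).1 ht
    rw [hbot, Subgroup.mem_bot] at hWc
    -- `c = W⁻¹`, hence `x W = W x'`
    have hxW : x * W = W * x' := by
      have hc : c = W⁻¹ := eq_inv_of_mul_eq_one_right hWc
      rw [hc] at hcx
      have := congrArg (fun z => W * z * W) hcx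
      simp only [mul_assoc, inv_mul_cancel, mul_one] at this
      rw [← mul_assoc, mul_inv_cancel, one_mul] at this
      exact this
    rw [conjOK, List.all_eq_true]
    intro i _
    cases hi : Nat.blt i n with
    | false => rfl
    | true =>
      rw [cond_true]
      have hi' : i < n := by simpa [Nat.blt] using hi
      have e : lk (enc n x) (applyAll fuel st i) = applyAll fuel st (lk (enc n x') i) := by
        rw [← hW i hi', lk_enc_fin hn x (W ⟨i, hi'⟩)]
        have h2 : lk (enc n x') i = ((x' ⟨i, hi'⟩ : Fin n) : ℕ) := lk_enc_fin hn x' ⟨i, hi'⟩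
        rw [h2, ← hW _ (x' ⟨i, hi'⟩).2]
        have := congrArg (fun z : Equiv.Perm (Fin n) => ((z ⟨i, hi'⟩ : Fin n) : ℕ)) hxW
        simpa only [Equiv.Perm.mul_apply] using this
      rw [e]
      exact Nat.beq_refl _
  | cons L Ls ih =>
    intro fixed st p W hok hc ht hcyc hW hWc hp
    obtain ⟨hb, hg, horb, hcard⟩ := level_step hn H fuel fixed L Ls hok hc ht
    obtain ⟨-, -, hrest⟩ := treeOK_cons hok
    have hpb : ((c ⟨L.1, hb⟩ : Fin n) : ℕ) = p := hp L Ls rfl hb
    rw [conjOK, strict_eq]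
    -- the point `t`
    have ht1 : applyAll fuel st p = (((W * c) ⟨L.1, hb⟩ : Fin n) : ℕ) := by
      rw [Equiv.Perm.mul_apply, hW _ (c ⟨L.1, hb⟩).2, hpb]
    have htm := horb (W * c) hWc
    rw [← ht1, mem_orbitL] at htm
    obtain ⟨htn, htr⟩ := htm
    rw [htr, cond_true]
    obtain ⟨w, hwK, hw1, hw2⟩ := trace_sound hn (fixer H fixed) L.2.1 hg L.2.2 L.1 fuel _ htn htr
    apply ih (L.1 :: fixed) _ _ (w * W) hrest (fun L' hL' => hc L' (List.mem_cons_of_mem _ hL')) hcard
    · -- base cycle
      cases Ls with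
      | nil => rfl
      | cons L' Ls' =>
        rw [baseCycle, Bool.and_eq_true] at hcyc
        exact hcyc.2
    · intro q hq
      rw [applyAll_append, Equiv.Perm.mul_apply, hw1 _ (W ⟨q, hq⟩).2, hW q hq]
    · rw [mem_fixer_cons hb, mul_assoc]
      refine ⟨(fixer H fixed).mul_mem hwK hWc, ?_⟩
      apply Fin.ext
      rw [Equiv.Perm.mul_apply, hw1 _ ((W * c) ⟨L.1, hb⟩).2, ← ht1]
      exact hw2
    · intro L' Ls' hLs hb'
      subst hLs
      rw [baseCycle, Bool.and_eq_true] at hcyc
      have hnext : lk (enc n x) L.1 = L'.1 := Nat.eq_of_beq_eq_true hcyc.1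
      rw [lk_enc_fin hn x ⟨L.1, hb⟩] at hnext
      have e : (⟨L'.1, hb'⟩ : Fin n) = x ⟨L.1, hb⟩ := Fin.ext hnext.symm
      rw [e, ← hpb, ← Equiv.Perm.mul_apply, hcx, Equiv.Perm.mul_apply, lk_enc_fin hn x' (c ⟨L.1, hb⟩)]

theorem treeOK_lt : ∀ (Ls : List Level) (fixed : List ℕ), treeOK n fixed Ls = true → ∀ L ∈ Ls, L.1 < n
  | [], _, _, _, hL => absurd hL List.not_mem_nil
  | L :: Ls, fixed, h, L', hL' => by
    obtain ⟨hb, -, hrest⟩ := treeOK_cons h
    rcases List.mem_cons.1 hL' with rfl | h'
    · exact hb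
    · exact treeOK_lt Ls _ hrest L' h'

/-- an element commuting with `x` and fixing the first base point fixes all the base points along the cycle -/
theorem fixes_of_cycle (hn : n ≤ 4096) (x e : Equiv.Perm (Fin n)) (hex : e * x = x * e) :
    ∀ (L : Level) (Ls : List Level), baseCycle (enc n x) (L :: Ls) = true → (∀ L' ∈ L :: Ls, L'.1 < n) →
      (∀ hb : L.1 < n, e ⟨L.1, hb⟩ = ⟨L.1, hb⟩) → ∀ L' ∈ L :: Ls, ∀ hb : L'.1 < n, e ⟨L'.1, hb⟩ = ⟨L'.1, hb⟩ := by
  intro L Ls
  induction Ls generalizing L with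
  | nil =>
    intro _ _ h0 L' hL' hb
    rw [List.mem_singleton] at hL'
    subst hL'
    exact h0 hb
  | cons L1 Ls ih =>
    intro hcyc hlt h0 L' hL' hb
    rcases List.mem_cons.1 hL' with rfl | h'
    · exact h0 hb
    · rw [baseCycle, Bool.and_eq_true] at hcyc
      have hb0 : L.1 < n := hlt L List.mem_cons_self
      have hnext : lk (enc n x) L.1 = L1.1 := Nat.eq_of_beq_eq_true hcyc.1
      rw [lk_enc_fin hn x ⟨L.1, hb0⟩] at hnext
      apply ih L1 hcyc.2 (fun L'' hL'' => hlt L'' (List.mem_cons_of_mem _ hL'')) _ L' h' hb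
      intro hb1
      have e1 : (⟨L1.1, hb1⟩ : Fin n) = x ⟨L.1, hb0⟩ := Fin.ext hnext.symm
      rw [e1, ← Equiv.Perm.mul_apply, hex, Equiv.Perm.mul_apply, h0 hb0]

/-- the candidates for the image of the first base point that pass the test -/
def conjList (n fuel cx cx' : ℕ) (tests : List ℕ) : List Level → List ℕ
  | [] => []
  | L :: Ls => (orbitL n L.2.1 L.2.2 L.1 fuel).filter fun p => conjOK n fuel cx cx' tests [] p (L :: Ls)

/-- **The number of the elements `c` of `H` with `c x = x' c` is at most the number of the candidates that pass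
the test.** -/
theorem ncard_conj_le (hn : n ≤ 4096) (H : Subgroup (Equiv.Perm (Fin n))) (fuel : ℕ)
    (x x' : Equiv.Perm (Fin n)) (tests : List ℕ) (Ls : List Level) (hne : Ls ≠ [])
    (hok : treeOK n [] Ls = true) (hc : ∀ L ∈ Ls, ∀ c ∈ L.2.1, ∃ g ∈ H, enc n g = c)
    (ht : Nat.card H ≤ (treeCounts n fuel Ls).prod) (hcyc : baseCycle (enc n x) Ls = true) :
    {c : Equiv.Perm (Fin n) | c ∈ H ∧ c * x = x' * c}.ncard ≤
      (conjList n fuel (enc n x) (enc n x') tests Ls).length := by
  classical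
  cases Ls with
  | nil => exact absurd rfl hne
  | cons L Ls =>
    have ht' : Nat.card (fixer H []) ≤ (treeCounts n fuel (L :: Ls)).prod := by rw [fixer_nil]; exact ht
    obtain ⟨hb, -, horb, -⟩ := level_step hn H fuel [] L Ls hok hc ht'
    have hlt := treeOK_lt (L :: Ls) [] hok
    set T : Finset ℕ := (conjList n fuel (enc n x) (enc n x') tests (L :: Ls)).toFinset with hT
    have hcard : T.card ≤ (conjList n fuel (enc n x) (enc n x') tests (L :: Ls)).length := List.toFinset_card_le _
    refine le_trans ?_ hcard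
    rw [← Set.ncard_coe_finset T]
    apply Set.ncard_le_ncard_of_injOn (fun c : Equiv.Perm (Fin n) => ((c ⟨L.1, hb⟩ : Fin n) : ℕ))
    · rintro c ⟨hcH, hcx⟩
      rw [Finset.mem_coe, hT, List.mem_toFinset, conjList, List.mem_filter]
      refine ⟨horb c (by rw [fixer_nil]; exact hcH), ?_⟩
      apply conjOK_of_mem hn H fuel x x' c hcx tests (L :: Ls) [] [] _ 1 hok hc ht' hcyc
      · intro q hq; rfl
      · rw [one_mul, fixer_nil]; exact hcH
      · intro L' Ls' hLs hb'
        injection hLs with h1 h2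
        subst h1
        rfl
    · rintro c ⟨hcH, hcx⟩ d ⟨hdH, hdx⟩ hcd
      have hcd' : c ⟨L.1, hb⟩ = d ⟨L.1, hb⟩ := Fin.ext hcd
      have hex : (d⁻¹ * c) * x = x * (d⁻¹ * c) := by
        have h1 : d⁻¹ * x' = x * d⁻¹ := by
          have := congrArg (fun z => d⁻¹ * z * d⁻¹) hdx
          simp only [mul_assoc, mul_inv_cancel, mul_one] at this
          rw [← mul_assoc, ← mul_assoc, inv_mul_cancel, one_mul] at this
          exact this.symm
        rw [mul_assoc, hcx, ← mul_assoc, h1, mul_assoc]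
      have hfix0 : ∀ hb' : L.1 < n, (d⁻¹ * c) ⟨L.1, hb'⟩ = ⟨L.1, hb'⟩ := by
        intro _
        rw [Equiv.Perm.mul_apply, hcd']
        exact Equiv.symm_apply_apply d _
      have hall := fixes_of_cycle hn x (d⁻¹ * c) hex L Ls hcyc hlt hfix0
      have hone := eq_one_of_fixes hn H fuel (L :: Ls) [] hok hc ht' (d⁻¹ * c)
        (by rw [fixer_nil]; exact H.mul_mem (H.inv_mem hdH) hcH) hall
      exact (inv_mul_eq_one.1 hone).symm

end Cfsg.Agent.PL
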