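import Cfsg.Agent.Lib.Lead.PL.Pk
import Cfsg.Agent.Lib.Lead.PG.Slp

/-!
# Straight line programs on codes of permutations (twelve bits per point)
-/

set_option autoImplicit false

namespace Cfsg.Agent.PL

open Cfsg.Agent.PG (strict strict_eq runM map_runM runM_mem)

/-- a straight line program on codes: each instruction multiplies two registers (counted from the newest) and
pushes the product -/
def run (n : ℕ) : List (ℕ × ℕ) → List ℕ → List ℕ
  | [], regs => regs
  | ij :: is, regs =>
    strict (pmul n (regs.getD ij.1 (pone n)) (regs.getD ij.2 (pone n))) fun v => run n is (v :: regs)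

theorem run_cons (n : ℕ) (ij : ℕ × ℕ) (is : List (ℕ × ℕ)) (regs : List ℕ) :
    run n (ij :: is) regs =
      run n is (pmul n (regs.getD ij.1 (pone n)) (regs.getD ij.2 (pone n)) :: regs) := by
  rw [run, strict_eq]

/-- the same with a continuation -/
def runK {α : Type*} (n : ℕ) : List (ℕ × ℕ) → List ℕ → (List ℕ → α) → α
  | [], regs, k => k regs
  | ij :: is, regs, k =>
    strict (pmul n (regs.getD ij.1 (pone n)) (regs.getD ij.2 (pone n))) fun v => runK n is (v :: regs) k

theorem runK_eq {α : Type*} (n : ℕ) (k : List ℕ → α) :
    ∀ (is : List (ℕ × ℕ)) (regs : List ℕ), runK n is regs k = k (run n is regs)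
  | [], _ => rfl
  | ij :: is, regs => by rw [runK, strict_eq, runK_eq n k is, run_cons]

/-! ### registers -/

section

variable {n : ℕ} (hn : n ≤ 4096) (H : Subgroup (Equiv.Perm (Fin n)))

/-- the registers of group elements have the registers of codes -/
def RegsOK : List ↥H → List ℕ → Prop := List.Forall₂ fun g c => enc n g.1 = c

variable {H}

theorem RegsOK.getD {gs : List ↥H} {cs : List ℕ} (h : RegsOK H gs cs) (i : ℕ) :
    enc n (gs.getD i 1).1 = cs.getD i (pone n) := by
  induction h generalizing i with
  | nil => simpa using pone_eq.symm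
  | cons hd _ ih =>
    cases i with
    | zero => simpa using hd
    | succ i => simpa using ih i

include hn in
theorem RegsOK.run {is : List (ℕ × ℕ)} : ∀ {gs : List ↥H} {cs : List ℕ},
    RegsOK H gs cs → RegsOK H (runM is gs) (run n is cs) := by
  induction is with
  | nil => intro gs cs h; exact h
  | cons ij is ih =>
    intro gs cs h
    rw [run_cons, runM]
    refine ih (List.Forall₂.cons ?_ h)
    rw [Subgroup.coe_mul, ← pmul_enc hn, h.getD ij.1, h.getD ij.2]

end

end Cfsg.Agent.PL
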